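import Mathlib
import Cfsg.Prelude.Def_HallClasses
import Cfsg.Agent.Lib.Helper95.SylMax.InstV4

set_option autoImplicit false
set_option linter.unusedSectionVars false

namespace Cfsg.Agent.Helper95.Pron.KMR

variable {G : Type*} [Group G]

theorem mem_conj {H : Subgroup G} {g z : G} :
    z ∈ H.map (MulAut.conj g).toMonoidHom ↔ g⁻¹ * z * g ∈ H := by
  rw [Subgroup.mem_map]
  constructor
  · rintro ⟨h, hh, rfl⟩
    have : g⁻¹ * (MulAut.conj g).toMonoidHom h * g = h := by
      show g⁻¹ * (g * h * g⁻¹) * g = h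
      group
    rw [this]; exact hh
  · intro h
    refine ⟨g⁻¹ * z * g, h, ?_⟩
    show g * (g⁻¹ * z * g) * g⁻¹ = z
    group

theorem map_conj_of_mem {H : Subgroup G} {m : G} (hm : m ∈ H) :
    H.map (MulAut.conj m).toMonoidHom = H := by
  ext z
  rw [mem_conj]
  constructor
  · intro h
    have := H.mul_mem (H.mul_mem hm h) (H.inv_mem hm)
    have e : m * (m⁻¹ * z * m) * m⁻¹ = z := by group
    rwa [e] at this
  · intro h
    exact H.mul_mem (H.mul_mem (H.inv_mem hm) h) hm

theorem exists_sylow_le [Finite G] {p : ℕ} [hp : Fact p.Prime] (H : Subgroup G)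
    (hH : ¬ p ∣ H.index) : ∃ S : Sylow p G, (S : Subgroup G) ≤ H := by
  obtain ⟨P⟩ : Nonempty (Sylow p H) := inferInstance
  have h1 : Nat.card ((P : Subgroup H).map H.subtype) = p ^ (Nat.card G).factorization p := by
    rw [Subgroup.card_map_of_injective H.subtype_injective, P.card_eq_multiplicity,
      ← H.card_mul_index, Nat.factorization_mul Nat.card_pos.ne' H.index_ne_zero_of_finite,
      Finsupp.add_apply, Nat.factorization_eq_zero_of_not_dvd hH, add_zero]
  refine ⟨Sylow.ofCard _ h1, ?_⟩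
  rw [Sylow.coe_ofCard]
  exact Subgroup.map_subtype_le _

/-- a simplified form of the Kondrat'ev–Maslova–Revin criterion -/
theorem pronormal_of_sylow [Finite G] {p : ℕ} [hp : Fact p.Prime] (H : Subgroup G)
    (S : Sylow p G) (hSH : (S : Subgroup G) ≤ H)
    (hN : ∀ m ∈ Subgroup.normalizer ((S : Subgroup G) : Set G),
      H.map (MulAut.conj m).toMonoidHom = H) : Cfsg.IsPronormal H := by
  intro g
  set K : Subgroup G := H ⊔ H.map (MulAut.conj g).toMonoidHom with hK
  have hSK : (S : Subgroup G) ≤ K := le_trans hSH le_sup_left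
  let R : Sylow p K := S.subtype hSK
  have hV : IsPGroup p (((S : Subgroup G).map (MulAut.conj g).toMonoidHom).comap K.subtype) :=
    (S.isPGroup'.map _).comap_subtype
  obtain ⟨y, hy⟩ := SylMax.InstV4.exists_conj_le R _ hV
  have hm : (y : G) * g ∈ Subgroup.normalizer ((S : Subgroup G) : Set G) := by
    apply Subgroup.mem_normalizer_fintype
    intro s hs
    have hgs : g * s * g⁻¹ ∈ K :=
      (le_sup_right : H.map (MulAut.conj g).toMonoidHom ≤ K) ⟨s, hSH hs, rfl⟩
    have h1 : (⟨g * s * g⁻¹, hgs⟩ : K) ∈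
        ((S : Subgroup G).map (MulAut.conj g).toMonoidHom).comap K.subtype := by
      rw [Subgroup.mem_comap]
      exact ⟨s, hs, rfl⟩
    have h2 := hy _ h1
    have h3 : ((y * ⟨g * s * g⁻¹, hgs⟩ * y⁻¹ : K) : G) ∈ (S : Subgroup G) := by
      have : y * ⟨g * s * g⁻¹, hgs⟩ * y⁻¹ ∈ (S : Subgroup G).subgroupOf K := by
        rw [← Sylow.coe_subtype]; exact h2
      exact Subgroup.mem_subgroupOf.mp this
    have e : ((y * ⟨g * s * g⁻¹, hgs⟩ * y⁻¹ : K) : G) = (y : G) * g * s * ((y : G) * g)⁻¹ := by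
      show (y : G) * (g * s * g⁻¹) * (y : G)⁻¹ = _
      group
    rw [e] at h3
    exact h3
  have hfix := hN _ hm
  refine ⟨(y : G)⁻¹, K.inv_mem y.2, ?_⟩
  ext z
  rw [mem_conj, mem_conj, inv_inv]
  have h4 : (y : G) * z * (y : G)⁻¹ ∈ H.map (MulAut.conj ((y : G) * g)).toMonoidHom ↔
      (y : G) * z * (y : G)⁻¹ ∈ H := by rw [hfix]
  rw [mem_conj] at h4
  have e : ((y : G) * g)⁻¹ * ((y : G) * z * (y : G)⁻¹) * ((y : G) * g) = g⁻¹ * z * g := by group
  rw [e] at h4
  exact h4

end Cfsg.Agent.Helper95.Pron.KMR
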