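import Mathlib
import Cfsg.Agent.Lib.Helper95.SylMax.InstV4

set_option autoImplicit false
set_option linter.unusedSectionVars false

namespace Cfsg.Agent.Helper95.Pron.Crux

open MulAction Equiv
open scoped Pointwise

universe u
variable {α : Type u} [Fintype α] [DecidableEq α]

theorem no_threeCycle {S : Subgroup (Perm α)} (hS : IsPGroup 2 S) {σ : Perm α} (hσ : σ ∈ S)
    (h3 : σ.IsThreeCycle) : False := by
  obtain ⟨k, hk⟩ := hS ⟨σ, hσ⟩
  have h1 : σ ^ 2 ^ k = 1 := congrArg Subtype.val hk
  have h2 : orderOf σ ∣ 2 ^ k := orderOf_dvd_of_pow_eq_one h1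
  rw [h3.orderOf] at h2
  have := (Nat.prime_dvd_prime_iff_eq Nat.prime_three Nat.prime_two).mp
    (Nat.prime_three.dvd_of_dvd_pow h2)
  omega

theorem conj_dswap (g : Perm α) (p q r s : α) :
    g * (swap p q * swap r s) * g⁻¹ = swap (g p) (g q) * swap (g r) (g s) := by
  rw [swap_apply_apply, swap_apply_apply]; group

section K
variable {S : Subgroup (Perm α)} (hS : IsPGroup 2 S) {c3 : Perm α}
  (hN : ∀ s ∈ S, c3 * s * c3⁻¹ ∈ S)
include hS hN

/-- exactly one point of the support of a double transposition of `S` is moved by `c3` -/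
theorem K1 {x y z w : α} (hxy : x ≠ y) (hxz : x ≠ z) (hxw : x ≠ w) (hyz : y ≠ z) (hyw : y ≠ w)
    (hd : swap x y * swap z w ∈ S) (hx : c3 x ≠ x) (hy : c3 y = y) (hz : c3 z = z)
    (hw : c3 w = w) : False := by
  have hd' := hN _ hd
  rw [conj_dswap, hy, hz, hw] at hd'
  have hxy' : c3 x ≠ y := fun h => hxy (c3.injective (h.trans hy.symm))
  have hxz' : c3 x ≠ z := fun h => hxz (c3.injective (h.trans hz.symm))
  have hxw' : c3 x ≠ w := fun h => hxw (c3.injective (h.trans hw.symm))
  have hprod := S.mul_mem hd hd'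
  have e : swap x y * swap z w * (swap (c3 x) y * swap z w) = swap y x * swap y (c3 x) := by
    rw [SylMax.Design.swap_comm_of_ne hxz' hxw' hyz hyw, mul_assoc, ← mul_assoc (swap z w),
      swap_mul_self, one_mul, swap_comm x y, swap_comm (c3 x) y]
  rw [e] at hprod
  exact no_threeCycle hS hprod
    (Perm.isThreeCycle_swap_mul_swap_same (Ne.symm hxy) (Ne.symm hxy') (Ne.symm hx))

/-- one transposition of a double transposition of `S` is moved as `x ↦ y ↦ elsewhere` -/
theorem K2 {x y z w : α} (hxy : x ≠ y) (hxz : x ≠ z) (hxw : x ≠ w) (hyz : y ≠ z) (hyw : y ≠ w)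
    (hd : swap x y * swap z w ∈ S) (hx : c3 x = y) (hy : c3 y ≠ x) (hz : c3 z = z)
    (hw : c3 w = w) : False := by
  have hd' := hN _ hd
  rw [conj_dswap, hx, hz, hw] at hd'
  have hyy : c3 y ≠ y := fun h => hxy (c3.injective (hx.trans h.symm))
  have hyz' : c3 y ≠ z := fun h => hyz (c3.injective (h.trans hz.symm))
  have hyw' : c3 y ≠ w := fun h => hyw (c3.injective (h.trans hw.symm))
  have hprod := S.mul_mem hd hd'
  have e : swap x y * swap z w * (swap y (c3 y) * swap z w) = swap y x * swap y (c3 y) := by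
    rw [SylMax.Design.swap_comm_of_ne hyz hyw hyz' hyw', mul_assoc, ← mul_assoc (swap z w),
      swap_mul_self, one_mul, swap_comm x y]
  rw [e] at hprod
  exact no_threeCycle hS hprod
    (Perm.isThreeCycle_swap_mul_swap_same (Ne.symm hxy) (Ne.symm hyy) (Ne.symm hy))

end K

end Cfsg.Agent.Helper95.Pron.Crux
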