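import Mathlib
import Cfsg.Agent.Lib.Helper95.Pron.Crux1

set_option autoImplicit false
set_option linter.unusedSectionVars false

namespace Cfsg.Agent.Helper95.Pron.Crux2

open MulAction Equiv
open scoped Pointwise

universe u
variable {α : Type u} [Fintype α] [DecidableEq α]

section c3
variable {c3 : Perm α} (h3 : c3.IsThreeCycle)
include h3

theorem cube (x : α) : c3 (c3 (c3 x)) = x := by
  have h := h3.orderOf
  have h1 : c3 ^ 3 = 1 := by rw [← h]; exact pow_orderOf_eq_one c3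
  have := congrArg (fun f : Perm α => f x) h1
  simpa [pow_succ, Perm.mul_apply] using this

theorem atMost3 {p q r s : α} (hp : c3 p ≠ p) (hq : c3 q ≠ q) (hr : c3 r ≠ r) (hs : c3 s ≠ s) :
    p = q ∨ p = r ∨ p = s ∨ q = r ∨ q = s ∨ r = s := by
  by_contra hcon
  push_neg at hcon
  obtain ⟨h1, h2, h3', h4, h5, h6⟩ := hcon
  have hsub : ({p, q, r, s} : Finset α) ⊆ c3.support := by
    intro x hx
    simp only [Finset.mem_insert, Finset.mem_singleton] at hx
    rw [Perm.mem_support]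
    rcases hx with hx | hx | hx | hx <;> rw [hx] <;> assumption
  have hc := Finset.card_le_card hsub
  rw [h3.card_support] at hc
  have : ({p, q, r, s} : Finset α).card = 4 := by
    rw [Finset.card_insert_of_notMem, Finset.card_insert_of_notMem, Finset.card_pair h6]
    · simp [h4, h5]
    · simp [h1, h2, h3']
  omega

theorem orient {x y : α} (hx : c3 x ≠ x) (hy : c3 y ≠ y) (hxy : x ≠ y) :
    c3 x = y ∨ c3 y = x := by
  have h1 : c3 (c3 x) ≠ c3 x := fun h => hx (c3.injective h)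
  have h2 : c3 (c3 (c3 x)) ≠ c3 (c3 x) := fun h => h1 (c3.injective h)
  rcases atMost3 h3 hx h1 h2 hy with h | h | h | h | h | h
  · exact absurd h.symm hx
  · exfalso
    apply hx
    have := cube h3 x
    rw [← h] at this
    exact this
  · exact absurd h hxy
  · exact absurd h.symm h1
  · exact Or.inl h
  · right
    rw [← h]
    exact cube h3 x

theorem not_both {x y : α} (hx : c3 x ≠ x) (h : c3 x = y) : c3 y ≠ x := by
  intro h'
  apply hx
  have := cube h3 x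
  rw [h, h'] at this
  exact this

theorem exists_moved (τ : Perm α) (hfix : ∀ x y, τ x = x → τ y = y → x = y) :
    ∃ p, c3 p ≠ p ∧ τ p ≠ p := by
  have hc := h3.card_support
  have h1 : 1 < c3.support.card := by omega
  obtain ⟨p1, hp1, p2, hp2, hne⟩ := Finset.one_lt_card.mp h1
  rw [Perm.mem_support] at hp1 hp2
  by_cases h : τ p1 = p1
  · exact ⟨p2, hp2, fun h2 => hne (hfix _ _ h h2)⟩
  · exact ⟨p1, hp1, h⟩

variable {S : Subgroup (Perm α)} (hS : IsPGroup 2 S)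
  (hN : ∀ s ∈ S, c3 * s * c3⁻¹ ∈ S)
include hS hN

theorem pairBad {x y z w : α} (hxy : x ≠ y) (hxz : x ≠ z) (hxw : x ≠ w) (hyz : y ≠ z)
    (hyw : y ≠ w) (hd : swap x y * swap z w ∈ S) (hx : c3 x ≠ x) (hy : c3 y ≠ y)
    (hz : c3 z = z) (hw : c3 w = w) : False := by
  rcases orient h3 hx hy hxy with h | h
  · exact Crux.K2 hS hN hxy hxz hxw hyz hyw hd h (not_both h3 hx h) hz hw
  · have hd' : swap y x * swap z w ∈ S := by rw [swap_comm y x]; exact hd
    exact Crux.K2 hS hN (Ne.symm hxy) hyz hyw hxz hxw hd' h (not_both h3 hy h) hz hw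

theorem fin {p p' q q' r : α} (hpq : p ≠ q) (hpp' : p ≠ p') (hpq' : p ≠ q') (hqp' : q ≠ p')
    (hqq' : q ≠ q') (hrp : r ≠ p) (hrq : r ≠ q) (hrp' : r ≠ p') (hrq' : r ≠ q')
    (hd : swap p q * swap p' q' ∈ S) (hp : c3 p ≠ p) (hq : c3 q ≠ q) (hr : c3 r ≠ r) :
    False := by
  have hp' : c3 p' = p' := by
    by_contra h
    rcases atMost3 h3 hp hq hr h with h | h | h | h | h | h
    · exact hpq h
    · exact hrp h.symm
    · exact hpp' h
    · exact hrq h.symm
    · exact hqp' h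
    · exact hrp' h
  have hq' : c3 q' = q' := by
    by_contra h
    rcases atMost3 h3 hp hq hr h with h | h | h | h | h | h
    · exact hpq h
    · exact hrp h.symm
    · exact hpq' h
    · exact hrq h.symm
    · exact hqq' h
    · exact hrq' h
  exact pairBad h3 hS hN hpq hpp' hpq' hqp' hqq' hd hp hq hp' hq'

variable {τ : Perm α} (hτ : ∀ x, τ (τ x) = x) (hfix : ∀ x y, τ x = x → τ y = y → x = y)
  (hfam : ∀ y y', τ y ≠ y → τ y' ≠ y' → y' ≠ y → y' ≠ τ y →
    swap y (τ y) * swap y' (τ y') ∈ S)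
include hτ hfix hfam

theorem claim1 (y : α) (hy : τ y ≠ y) : c3 y ≠ y ∨ c3 (τ y) ≠ τ y := by
  by_contra hcon
  push_neg at hcon
  obtain ⟨hy1, hy2⟩ := hcon
  obtain ⟨p, hp, hτp⟩ := exists_moved h3 τ hfix
  have hpy : p ≠ y := fun h => hp (by rw [h]; exact hy1)
  have hpτy : p ≠ τ y := fun h => hp (by rw [h]; exact hy2)
  have hτpy : τ p ≠ y := fun h => hpτy (by rw [← h, hτ])
  have hτpτy : τ p ≠ τ y := fun h => hpy (τ.injective h)
  have hd := hfam p y hτp hy (Ne.symm hpy) (Ne.symm hτpy)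
  by_cases hτpm : c3 (τ p) = τ p
  · exact Crux.K1 hS hN (Ne.symm hτp) hpy hpτy hτpy hτpτy hd hp hτpm hy1 hy2
  · exact pairBad h3 hS hN (Ne.symm hτp) hpy hpτy hτpy hτpτy hd hp hτpm hy1 hy2

/-- the crux: no three-cycle normalizes a `2`-group containing a rich family -/
theorem crux (hn : 6 ≤ Fintype.card α) {w1 w2 : α} (hw1 : τ w1 ≠ w1) (hw2 : τ w2 ≠ w2)
    (h21 : w2 ≠ w1) (h2τ1 : w2 ≠ τ w1) (hd2 : swap w1 w2 * swap (τ w1) (τ w2) ∈ S) : False := by
  have hτ2w1 : τ w2 ≠ w1 := fun h => h2τ1 (by rw [← h, hτ])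
  have hτ2τ1 : τ w2 ≠ τ w1 := fun h => h21 (τ.injective h)
  have d1 := hfam w1 w2 hw1 hw2 h21 h2τ1
  have d3 : swap w1 (τ w2) * swap (τ w1) w2 ∈ S := by
    have := S.mul_mem d1 hd2
    rwa [SylMax.InstV4.dswap_mul (Ne.symm hw1) (Ne.symm h21) (Ne.symm hτ2w1) (Ne.symm h2τ1)
      (Ne.symm hτ2τ1) (Ne.symm hw2)] at this
  -- a third pair
  obtain ⟨z, hz, hzW⟩ : ∃ z, τ z ≠ z ∧ z ∉ ({w1, τ w1, w2, τ w2} : Finset α) := by
    let F : Finset α := Finset.univ.filter (fun x => τ x = x)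
    have hF : F.card ≤ 1 := by
      apply Finset.card_le_one.mpr
      intro a ha b hb
      simp only [F, Finset.mem_filter, Finset.mem_univ, true_and] at ha hb
      exact hfix a b ha hb
    have hW : ({w1, τ w1, w2, τ w2} : Finset α).card ≤ 4 := Finset.card_le_four
    have hU : (({w1, τ w1, w2, τ w2} : Finset α) ∪ F).card < (Finset.univ : Finset α).card := by
      have := Finset.card_union_le ({w1, τ w1, w2, τ w2} : Finset α) F
      rw [Finset.card_univ]
      omega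
    obtain ⟨z, _, hz⟩ := Finset.exists_mem_notMem_of_card_lt_card hU
    rw [Finset.mem_union, not_or] at hz
    refine ⟨z, ?_, hz.1⟩
    intro h
    apply hz.2
    simp only [F, Finset.mem_filter, Finset.mem_univ, true_and]
    exact h
  simp only [Finset.mem_insert, Finset.mem_singleton, not_or] at hzW
  obtain ⟨hz1, hz2, hz3, hz4⟩ := hzW
  have hτz1 : τ z ≠ w1 := fun h => hz2 (by rw [← h, hτ])
  have hτz2 : τ z ≠ τ w1 := fun h => hz1 (τ.injective h)
  have hτz3 : τ z ≠ w2 := fun h => hz4 (by rw [← h, hτ])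
  have hτz4 : τ z ≠ τ w2 := fun h => hz3 (τ.injective h)
  have c1 := claim1 h3 hS hN hτ hfix hfam w1 hw1
  have c2 := claim1 h3 hS hN hτ hfix hfam w2 hw2
  have c3' := claim1 h3 hS hN hτ hfix hfam z hz
  obtain ⟨-, -, -, d2', -, -, -⟩ :=
    SylMax.InstV4.eight (Ne.symm hw1) (Ne.symm hτ2w1) h2τ1 (Ne.symm hw2) hd2
  obtain ⟨-, -, -, d3', -, -, -⟩ :=
    SylMax.InstV4.eight (Ne.symm hw1) (Ne.symm h21) hτ2τ1 hw2 d3
  have key : ∀ r, c3 r ≠ r → r ≠ w1 → r ≠ τ w1 → r ≠ w2 → r ≠ τ w2 → False := by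
    intro r hr r1 r2 r3 r4
    rcases c1 with m1 | m1 <;> rcases c2 with m2 | m2
    · exact fin h3 hS hN (Ne.symm h21) (Ne.symm hw1) (Ne.symm hτ2w1) h2τ1 (Ne.symm hw2)
        r1 r3 r2 r4 hd2 m1 m2 hr
    · exact fin h3 hS hN (Ne.symm hτ2w1) (Ne.symm hw1) (Ne.symm h21) hτ2τ1 hw2
        r1 r4 r2 r3 d3 m1 m2 hr
    · exact fin h3 hS hN (Ne.symm h2τ1) hw1 (Ne.symm hτ2τ1) h21 (Ne.symm hw2)
        r2 r3 r1 r4 d3' m1 m2 hr
    · exact fin h3 hS hN (Ne.symm hτ2τ1) hw1 (Ne.symm h2τ1) hτ2w1 hw2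
        r2 r4 r1 r3 d2' m1 m2 hr
  rcases c3' with m3 | m3
  · exact key z m3 hz1 hz2 hz3 hz4
  · exact key (τ z) m3 hτz1 hτz2 hτz3 hτz4

end c3

end Cfsg.Agent.Helper95.Pron.Crux2
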