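import Mathlib
import Cfsg.Agent.Lib.Helper95.Pron.Crux2
import Cfsg.Agent.Lib.Helper95.SylMax.InstAlt

set_option autoImplicit false
set_option linter.unusedSectionVars false

namespace Cfsg.Agent.Helper95.Pron.Rich

open MulAction Equiv
open scoped Pointwise

universe u
variable {α : Type u} [Fintype α] [DecidableEq α]

theorem app_inv (f : Perm α) (x : α) : f (f⁻¹ x) = x := by simp

theorem inv_app (f : Perm α) (x : α) : f⁻¹ (f x) = x := by simp

/-- an involution with at most one fixed point -/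
theorem exists_tau (α : Type u) [Fintype α] [DecidableEq α] :
    ∃ τ : Perm α, (∀ x, τ (τ x) = x) ∧ (∀ x y, τ x = x → τ y = y → x = y) := by
  have hm : (Multiset.replicate (Fintype.card α / 2) 2).sum ≤ Fintype.card α ∧
      ∀ a ∈ Multiset.replicate (Fintype.card α / 2) 2, 2 ≤ a := by
    refine ⟨?_, ?_⟩
    · rw [Multiset.sum_replicate, smul_eq_mul]
      omega
    · intro a ha
      rw [Multiset.eq_of_mem_replicate ha]
  obtain ⟨τ, hτ⟩ := (Equiv.Perm.exists_with_cycleType_iff α).mpr hm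
  have hord : orderOf τ ∣ 2 := by
    rw [← Perm.lcm_cycleType, hτ, Multiset.lcm_dvd]
    intro b hb
    rw [Multiset.eq_of_mem_replicate hb]
  have hsq : τ ^ 2 = 1 := orderOf_dvd_iff_pow_eq_one.mp hord
  have hsupp : τ.support.card = Fintype.card α / 2 * 2 := by
    rw [← Perm.sum_cycleType, hτ, Multiset.sum_replicate, smul_eq_mul]
  refine ⟨τ, ?_, ?_⟩
  · intro x
    have := congrArg (fun f : Perm α => f x) hsq
    simpa [pow_succ, Perm.mul_apply] using this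
  · intro x y hx hy
    by_contra hne
    have hsub : ({x, y} : Finset α) ⊆ τ.supportᶜ := by
      intro z hz
      simp only [Finset.mem_insert, Finset.mem_singleton] at hz
      rw [Finset.mem_compl, Perm.mem_support, not_not]
      rcases hz with hz | hz <;> rw [hz] <;> assumption
    have hc := Finset.card_le_card hsub
    rw [Finset.card_pair hne, Finset.card_compl, hsupp] at hc
    omega

section E
variable {τ : Perm α} (hτ : ∀ x, τ (τ x) = x)

/-- the exponent-`2` group attached to an involution -/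
def E (τ : Perm α) (hτ : ∀ x, τ (τ x) = x) : Subgroup (Perm α) where
  carrier := {σ | ∀ y, σ y = y ∨ σ y = τ y}
  one_mem' := fun y => Or.inl rfl
  mul_mem' := by
    intro σ ρ hσ hρ y
    rw [Perm.mul_apply]
    rcases hρ y with h | h
    · rw [h]; exact hσ y
    · rw [h]
      rcases hσ (τ y) with h' | h'
      · exact Or.inr h'
      · left; rw [h', hτ]
  inv_mem' := by
    intro σ hσ y
    rcases hσ (σ⁻¹ y) with h | h
    · left
      rw [app_inv] at h
      exact h.symm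
    · right
      rw [app_inv] at h
      have h2 := congrArg τ h
      rw [hτ] at h2
      exact h2.symm

theorem mem_E {σ : Perm α} : σ ∈ E τ hτ ↔ ∀ y, σ y = y ∨ σ y = τ y := Iff.rfl

theorem sq_of_mem_E {σ : Perm α} (hσ : σ ∈ E τ hτ) (y : α) : σ (σ y) = y := by
  rcases hσ y with h | h
  · rw [h, h]
  · rcases hσ (τ y) with h' | h'
    · have : τ y = y := σ.injective (h'.trans h.symm)
      rw [h, this, ← this, h', this]
    · rw [h, h', hτ]

theorem isPGroup_E : IsPGroup 2 (E τ hτ) := by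
  rintro ⟨σ, hσ⟩
  refine ⟨1, Subtype.ext ?_⟩
  show σ ^ 2 ^ 1 = 1
  ext y
  simp only [pow_one, pow_two, Perm.mul_apply, Perm.one_apply]
  exact sq_of_mem_E hτ hσ y

theorem swap_mem_E (y : α) : swap y (τ y) ∈ E τ hτ := by
  intro x
  by_cases h1 : x = y
  · right; rw [h1, swap_apply_left]
  · by_cases h2 : x = τ y
    · right; rw [h2, swap_apply_right, hτ]
    · left; exact swap_apply_of_ne_of_ne h1 h2

theorem dswap_mem (y y' : α) (hy : τ y ≠ y) (hy' : τ y' ≠ y') :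
    swap y (τ y) * swap y' (τ y') ∈ E τ hτ ⊓ alternatingGroup α := by
  refine ⟨(E τ hτ).mul_mem (swap_mem_E hτ y) (swap_mem_E hτ y'), ?_⟩
  show _ ∈ alternatingGroup α
  rw [Perm.mem_alternatingGroup, Perm.sign_mul, Perm.sign_swap (Ne.symm hy),
    Perm.sign_swap (Ne.symm hy')]
  rfl

theorem conj_mem_E {v : Perm α} (hv : ∀ z, v (τ z) = τ (v z)) {σ : Perm α} (hσ : σ ∈ E τ hτ) :
    v * σ * v⁻¹ ∈ E τ hτ := by
  intro y
  simp only [Perm.mul_apply]
  rcases hσ (v⁻¹ y) with h | h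
  · left; rw [h, app_inv]
  · right; rw [h, hv, app_inv]

end E

section Q
variable {τ : Perm α} (hτ : ∀ x, τ (τ x) = x) {w1 w2 : α} (hw1 : τ w1 ≠ w1) (hw2 : τ w2 ≠ w2)
  (h21 : w2 ≠ w1) (h2τ1 : w2 ≠ τ w1)
include hτ hw1 hw2 h21 h2τ1

theorem v_comm (z : α) : (swap w1 w2 * swap (τ w1) (τ w2)) (τ z) =
    τ ((swap w1 w2 * swap (τ w1) (τ w2)) z) := by
  have hτ2w1 : τ w2 ≠ w1 := fun h => h2τ1 (by rw [← h, hτ])
  have e : τ * (swap w1 w2 * swap (τ w1) (τ w2)) * τ⁻¹ = swap w1 w2 * swap (τ w1) (τ w2) := by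
    rw [Crux.conj_dswap, hτ, hτ]
    exact (SylMax.Design.swap_comm_of_ne (Ne.symm hw1) (Ne.symm hτ2w1) h2τ1 (Ne.symm hw2)).symm
  have e2 : τ * (swap w1 w2 * swap (τ w1) (τ w2)) = swap w1 w2 * swap (τ w1) (τ w2) * τ :=
    mul_inv_eq_iff_eq_mul.mp e
  have := congrArg (fun f : Perm α => f z) e2
  simp only [Perm.mul_apply] at this
  simp only [Perm.mul_apply]
  exact this.symm

theorem v_sq : (swap w1 w2 * swap (τ w1) (τ w2)) ^ 2 = 1 := by
  have hτ2w1 : τ w2 ≠ w1 := fun h => h2τ1 (by rw [← h, hτ])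
  rw [pow_two]
  exact SylMax.InstV4.dswap_sq (Ne.symm hw1) (Ne.symm hτ2w1) h2τ1 (Ne.symm hw2)

theorem v_mem_alt : swap w1 w2 * swap (τ w1) (τ w2) ∈ alternatingGroup α := by
  have hτ2τ1 : τ w2 ≠ τ w1 := fun h => h21 (τ.injective h)
  rw [Perm.mem_alternatingGroup, Perm.sign_mul, Perm.sign_swap (Ne.symm h21),
    Perm.sign_swap (Ne.symm hτ2τ1)]
  rfl

theorem isPGroup_Q : IsPGroup 2 (Subgroup.zpowers (swap w1 w2 * swap (τ w1) (τ w2)) ⊔
    (E τ hτ ⊓ alternatingGroup α) : Subgroup (Perm α)) := by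
  haveI : Fact (Nat.Prime 2) := ⟨Nat.prime_two⟩
  apply IsPGroup.to_sup_of_normal_right'
    (SylMax.InstAlt.isPGroup_zpowers_of_sq (v_sq hτ hw1 hw2 h21 h2τ1))
    ((isPGroup_E hτ).to_le inf_le_left)
  rw [Subgroup.zpowers_le]
  apply Subgroup.mem_normalizer_fintype
  intro n hn
  exact ⟨conj_mem_E hτ (v_comm hτ hw1 hw2 h21 h2τ1) hn.1,
    (inferInstance : (alternatingGroup α).Normal).conj_mem n hn.2 _⟩

theorem Q_le : (Subgroup.zpowers (swap w1 w2 * swap (τ w1) (τ w2)) ⊔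
    (E τ hτ ⊓ alternatingGroup α) : Subgroup (Perm α)) ≤ alternatingGroup α :=
  sup_le (Subgroup.zpowers_le.mpr (v_mem_alt hτ hw1 hw2 h21 h2τ1)) inf_le_right

end Q

theorem exists_nonfixed {τ : Perm α} (hfix : ∀ x y, τ x = x → τ y = y → x = y) (T : Finset α)
    (hT : T.card + 1 < Fintype.card α) : ∃ z, τ z ≠ z ∧ z ∉ T := by
  let F : Finset α := Finset.univ.filter (fun x => τ x = x)
  have hF : F.card ≤ 1 := by
    apply Finset.card_le_one.mpr
    intro a ha b hb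
    simp only [F, Finset.mem_filter, Finset.mem_univ, true_and] at ha hb
    exact hfix a b ha hb
  have hU : (T ∪ F).card < (Finset.univ : Finset α).card := by
    have := Finset.card_union_le T F
    rw [Finset.card_univ]
    omega
  obtain ⟨z, _, hz⟩ := Finset.exists_mem_notMem_of_card_lt_card hU
  rw [Finset.mem_union, not_or] at hz
  refine ⟨z, ?_, hz.1⟩
  intro h
  apply hz.2
  simp only [F, Finset.mem_filter, Finset.mem_univ, true_and]
  exact h

/-- the property of a subgroup: it contains a rich family of double transpositions -/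
def HasFamily (S : Subgroup (Perm α)) : Prop :=
  ∃ τ : Perm α, (∀ x, τ (τ x) = x) ∧ (∀ x y, τ x = x → τ y = y → x = y) ∧
    (∀ y y', τ y ≠ y → τ y' ≠ y' → y' ≠ y → y' ≠ τ y → swap y (τ y) * swap y' (τ y') ∈ S) ∧
    ∃ w1 w2, τ w1 ≠ w1 ∧ τ w2 ≠ w2 ∧ w2 ≠ w1 ∧ w2 ≠ τ w1 ∧
      swap w1 w2 * swap (τ w1) (τ w2) ∈ S

theorem transport {S Q : Subgroup (Perm α)} {h : Perm α} (hh : ∀ r ∈ Q, h * r * h⁻¹ ∈ S)
    {τ0 : Perm α} (hτ0 : ∀ x, τ0 (τ0 x) = x) (hfix0 : ∀ x y, τ0 x = x → τ0 y = y → x = y)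
    (hfam0 : ∀ y y', τ0 y ≠ y → τ0 y' ≠ y' → swap y (τ0 y) * swap y' (τ0 y') ∈ Q)
    {w1 w2 : α} (hw1 : τ0 w1 ≠ w1) (hw2 : τ0 w2 ≠ w2) (h21 : w2 ≠ w1) (h2τ1 : w2 ≠ τ0 w1)
    (hd2 : swap w1 w2 * swap (τ0 w1) (τ0 w2) ∈ Q) : HasFamily S := by
  have hτx : ∀ x, (h * τ0 * h⁻¹) x = h (τ0 (h⁻¹ x)) := fun x => rfl
  have hne : ∀ y, (h * τ0 * h⁻¹) y ≠ y → τ0 (h⁻¹ y) ≠ h⁻¹ y := by
    intro y hy h'
    apply hy
    rw [hτx, h', app_inv]
  refine ⟨h * τ0 * h⁻¹, ?_, ?_, ?_, h w1, h w2, ?_, ?_, ?_, ?_, ?_⟩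
  · intro x
    rw [hτx, hτx, inv_app, hτ0, app_inv]
  · intro x y hx hy
    rw [hτx] at hx hy
    have hx' : τ0 (h⁻¹ x) = h⁻¹ x := by
      rw [Perm.eq_inv_iff_eq]; exact hx
    have hy' : τ0 (h⁻¹ y) = h⁻¹ y := by
      rw [Perm.eq_inv_iff_eq]; exact hy
    exact h⁻¹.injective (hfix0 _ _ hx' hy')
  · intro y y' hy hy' _ _
    have := hh _ (hfam0 (h⁻¹ y) (h⁻¹ y') (hne y hy) (hne y' hy'))
    rw [Crux.conj_dswap, app_inv, app_inv] at this
    exact this
  · rw [hτx, inv_app]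
    exact fun h' => hw1 (h.injective h')
  · rw [hτx, inv_app]
    exact fun h' => hw2 (h.injective h')
  · exact fun h' => h21 (h.injective h')
  · rw [hτx, inv_app]
    exact fun h' => h2τ1 (h.injective h')
  · have := hh _ hd2
    rw [Crux.conj_dswap] at this
    rw [hτx, hτx, inv_app, inv_app]
    exact this

theorem exists_family (hn : 6 ≤ Fintype.card α) (S : Subgroup (Perm α))
    (hSyl : ∀ Q : Subgroup (Perm α), IsPGroup 2 Q → Q ≤ alternatingGroup α →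
      ∃ h : Perm α, ∀ r ∈ Q, h * r * h⁻¹ ∈ S) : HasFamily S := by
  obtain ⟨τ0, hτ0, hfix0⟩ := exists_tau α
  obtain ⟨w1, hw1, -⟩ := exists_nonfixed hfix0 ∅ (by rw [Finset.card_empty]; omega)
  obtain ⟨w2, hw2, hw2T⟩ := exists_nonfixed hfix0 {w1, τ0 w1} (by
    have := Finset.card_le_two (a := w1) (b := τ0 w1)
    omega)
  simp only [Finset.mem_insert, Finset.mem_singleton, not_or] at hw2T
  obtain ⟨h21, h2τ1⟩ := hw2T
  obtain ⟨h, hh⟩ := hSyl _ (isPGroup_Q hτ0 hw1 hw2 h21 h2τ1) (Q_le hτ0 hw1 hw2 h21 h2τ1)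
  exact transport hh hτ0 hfix0
    (fun y y' hy hy' => Subgroup.mem_sup_right (dswap_mem hτ0 y y' hy hy'))
    hw1 hw2 h21 h2τ1 (Subgroup.mem_sup_left (Subgroup.mem_zpowers _))

/-- no three-cycle normalizes a `2`-subgroup of `Perm α` containing a rich family -/
theorem no_three_cycle (hn : 6 ≤ Fintype.card α) {S : Subgroup (Perm α)} (hS : IsPGroup 2 S)
    (hF : HasFamily S) {c3 : Perm α} (h3 : c3.IsThreeCycle)
    (hN : ∀ s ∈ S, c3 * s * c3⁻¹ ∈ S) : False := by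
  obtain ⟨τ, hτ, hfix, hfam, w1, w2, hw1, hw2, h21, h2τ1, hd2⟩ := hF
  exact Crux2.crux h3 hS hN hτ hfix hfam hn hw1 hw2 h21 h2τ1 hd2

end Cfsg.Agent.Helper95.Pron.Rich
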