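import Mathlib
import Cfsg.Agent.Lib.Helper95.SylMax.Parity

set_option autoImplicit false
set_option linter.unusedSectionVars false

namespace Cfsg.Agent.Helper95.Pron.TwoOrbits

open MulAction Equiv
open scoped Pointwise

universe u
variable {α : Type u} [Fintype α] [DecidableEq α]

/-- the subgroup of permutations preserving a colouring -/
def colStab {ι : Type*} (f : α → ι) : Subgroup (Perm α) where
  carrier := {σ | f ∘ σ = f}
  mul_mem' := by
    intro σ τ hσ hτ
    show f ∘ (σ * τ) = f
    have : f ∘ (σ * τ) = (f ∘ σ) ∘ τ := rfl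
    rw [this, hσ, hτ]
  one_mem' := rfl
  inv_mem' := by
    intro σ hσ
    show f ∘ (σ⁻¹ : Perm α) = f
    have h1 : f ∘ (σ⁻¹ : Perm α) = (f ∘ σ) ∘ (σ⁻¹ : Perm α) := by rw [hσ]
    rw [h1]
    funext y
    simp

theorem card_colStab (f : α → Fin 3) :
    Nat.card (colStab f) = ({a | f a = 0} : Set α).ncard.factorial *
      ({a | f a = 1} : Set α).ncard.factorial * ({a | f a = 2} : Set α).ncard.factorial := by
  have h := DomMulAct.stabilizer_ncard f
  rw [Fin.prod_univ_three] at h
  rw [← h]
  exact Nat.card_coe_set_eq _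

theorem smul_mem_orbit_iff' {G : Type*} [Group G] {β : Type*} [MulAction G β] (g : G) (x y : β) :
    g • y ∈ orbit G x ↔ y ∈ orbit G x := by
  constructor
  · intro h
    have := mem_orbit_of_mem_orbit g⁻¹ h
    rwa [inv_smul_smul] at this
  · intro h
    exact mem_orbit_of_mem_orbit g h

/-- A Sylow `2`-subgroup of a symmetric group has no two orbits of the same size. -/
theorem two_orbits (P : Sylow 2 (Perm α)) {x x' : α}
    (hne : x' ∉ orbit (P : Subgroup (Perm α)) x)
    (hcard : (orbit (P : Subgroup (Perm α)) x).ncard = (orbit (P : Subgroup (Perm α)) x').ncard) :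
    False := by
  classical
  haveI : Fact (Nat.Prime 2) := ⟨Nat.prime_two⟩
  set O1 : Set α := orbit (P : Subgroup (Perm α)) x with hO1
  set O2 : Set α := orbit (P : Subgroup (Perm α)) x' with hO2
  have hdisj : Disjoint O1 O2 := by
    rcases orbit.eq_or_disjoint (G := (P : Subgroup (Perm α))) x x' with h | h
    · exfalso; apply hne
      have : x' ∈ orbit (P : Subgroup (Perm α)) x := by rw [h]; exact mem_orbit_self x'
      exact this
    · exact h
  let f : α → Fin 3 := fun y => if y ∈ O1 then 0 else if y ∈ O2 then 1 else 2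
  have hf0 : ({a | f a = 0} : Set α) = O1 := by
    ext y
    simp only [Set.mem_ofPred_eq, f]
    constructor
    · intro h
      by_contra hy
      rw [if_neg hy] at h
      split_ifs at h
      · exact absurd h (by decide)
      · exact absurd h (by decide)
    · intro hy
      rw [if_pos hy]
  have hf1 : ({a | f a = 1} : Set α) = O2 := by
    ext y
    simp only [Set.mem_ofPred_eq, f]
    constructor
    · intro h
      by_contra hy
      by_cases hy1 : y ∈ O1
      · rw [if_pos hy1] at h; exact absurd h (by decide)
      · rw [if_neg hy1, if_neg hy] at h; exact absurd h (by decide)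
    · intro hy
      have hy1 : y ∉ O1 := fun h => Set.disjoint_left.mp hdisj h hy
      rw [if_neg hy1, if_pos hy]
  have hf2 : ({a | f a = 2} : Set α) = (O1 ∪ O2)ᶜ := by
    ext y
    simp only [Set.mem_ofPred_eq, f, Set.mem_compl_iff, Set.mem_union, not_or]
    constructor
    · intro h
      constructor
      · intro hy1
        rw [if_pos hy1] at h; exact absurd h (by decide)
      · intro hy2
        by_cases hy1 : y ∈ O1
        · rw [if_pos hy1] at h; exact absurd h (by decide)
        · rw [if_neg hy1, if_pos hy2] at h; exact absurd h (by decide)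
    · rintro ⟨h1, h2⟩
      rw [if_neg h1, if_neg h2]
  -- `P` preserves the colouring
  have hPle : (P : Subgroup (Perm α)) ≤ colStab f := by
    intro σ hσ
    show f ∘ σ = f
    funext y
    have h1 : σ y ∈ O1 ↔ y ∈ O1 := smul_mem_orbit_iff' (⟨σ, hσ⟩ : (P : Subgroup (Perm α))) x y
    have h2 : σ y ∈ O2 ↔ y ∈ O2 := smul_mem_orbit_iff' (⟨σ, hσ⟩ : (P : Subgroup (Perm α))) x' y
    simp only [Function.comp_apply, f, h1, h2]
  have hdvd : Nat.card (P : Subgroup (Perm α)) ∣ Nat.card (colStab f) :=
    Subgroup.card_dvd_of_le hPle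
  rw [card_colStab, hf0, hf1, hf2, P.card_eq_multiplicity, Nat.card_perm] at hdvd
  set a := O1.ncard with ha
  have ha2 : O2.ncard = a := hcard.symm
  set c := (O1 ∪ O2)ᶜ.ncard with hc
  have hn : Fintype.card α = 2 * a + c := by
    have h1 : (O1 ∪ O2).ncard = a + a := by
      rw [Set.ncard_union_eq hdisj, ha2]
    have h2 := Set.ncard_add_ncard_compl (O1 ∪ O2)
    rw [h1, Nat.card_eq_fintype_card] at h2
    omega
  have hapos : 1 ≤ a := by
    rw [ha, Nat.succ_le_iff, Set.ncard_pos]
    exact ⟨x, mem_orbit_self x⟩
  rw [ha2] at hdvd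
  -- factorial identity
  have e1 : (2 * a + c).choose (2 * a) * (2 * a).factorial * c.factorial
      = (2 * a + c).factorial := by
    have := Nat.choose_mul_factorial_mul_factorial (Nat.le_add_right (2 * a) c)
    rwa [Nat.add_sub_cancel_left] at this
  have e2 : (2 * a).choose a * a.factorial * a.factorial = (2 * a).factorial := by
    have := Nat.choose_mul_factorial_mul_factorial (by omega : a ≤ 2 * a)
    have h3 : 2 * a - a = a := by omega
    rwa [h3] at this
  obtain ⟨k, hk⟩ := SylMax.Parity.choose_half hapos
  obtain ⟨m, hm⟩ := hdvd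
  rw [Nat.card_eq_fintype_card] at hm
  have e3 : (Fintype.card α).factorial
      = 2 ^ ((Fintype.card α).factorial.factorization 2 + 1) *
        ((2 * a + c).choose (2 * a) * k * m) := by
    generalize (Fintype.card α).factorial.factorization 2 = E at hm ⊢
    rw [hn, ← e1, ← e2, hk]
    calc (2 * a + c).choose (2 * a) * (2 * k * a.factorial * a.factorial) * c.factorial
        = 2 * ((2 * a + c).choose (2 * a) * k) * (a.factorial * a.factorial * c.factorial) := by
          ring
      _ = 2 * ((2 * a + c).choose (2 * a) * k) * (2 ^ E * m) := by rw [hm]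
      _ = _ := by rw [pow_succ]; ring
  have hnd := Nat.pow_succ_factorization_not_dvd (Nat.factorial_ne_zero (Fintype.card α))
    Nat.prime_two
  exact hnd ⟨_, e3⟩

end Cfsg.Agent.Helper95.Pron.TwoOrbits
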