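import Mathlib
import Cfsg.Agent.Lib.Helper95.Pron.TwoOrbits
import Cfsg.Agent.Lib.Helper95.SylMax.InstV4

set_option autoImplicit false
set_option linter.unusedSectionVars false

namespace Cfsg.Agent.Helper95.Pron.SelfNorm

open MulAction Equiv
open scoped Pointwise

universe u

section basic
variable {α : Type u} [Fintype α] [DecidableEq α]

theorem card_stab (x : α) :
    Fintype.card α * Nat.card (stabilizer (Perm α) x) = (Fintype.card α).factorial := by
  have h1 := (stabilizer (Perm α) x).index_mul_card
  rw [index_stabilizer, orbit_eq_univ, Set.ncard_univ, Nat.card_perm,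
    Nat.card_eq_fintype_card (α := α)] at h1
  exact h1

theorem card_stab_succ {n : ℕ} (hα : Fintype.card α = n + 1) (x : α) :
    Nat.card (stabilizer (Perm α) x) = n.factorial := by
  have h := card_stab x
  rw [hα, Nat.factorial_succ] at h
  exact Nat.eq_of_mul_eq_mul_left (Nat.succ_pos n) h

theorem orbit_mul_stab (P : Subgroup (Perm α)) (y : α) :
    (orbit P y).ncard * Nat.card (stabilizer P y) = Nat.card P := by
  have h1 := (stabilizer P y).index_mul_card
  rwa [index_stabilizer] at h1

/-- the stabilizer in a `2`-group of a point has order `2 ^ j`, `j ≤ v₂ (n!)` -/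
theorem card_stabP {n : ℕ} (hα : Fintype.card α = n + 1) (P : Subgroup (Perm α))
    (hP : IsPGroup 2 P) (y : α) :
    ∃ j, j ≤ n.factorial.factorization 2 ∧ Nat.card (stabilizer P y) = 2 ^ j := by
  haveI : Fact (Nat.Prime 2) := ⟨Nat.prime_two⟩
  have hst : IsPGroup 2 (stabilizer P y) := hP.to_subgroup _
  obtain ⟨j, hj⟩ := IsPGroup.iff_card.mp hst
  refine ⟨j, ?_, hj⟩
  have hle : (stabilizer P y).map P.subtype ≤ stabilizer (Perm α) y := by
    rintro _ ⟨s, hs, rfl⟩
    exact hs
  have hdvd := Subgroup.card_dvd_of_le hle
  rw [Subgroup.card_map_of_injective P.subtype_injective, hj, card_stab_succ hα y] at hdvd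
  exact (Nat.Prime.pow_dvd_iff_le_factorization Nat.prime_two (Nat.factorial_ne_zero n)).mp hdvd

end basic

/-- A Sylow `2`-subgroup of a symmetric group is not normalized by an element of odd prime
order. -/
theorem no_odd_norm : ∀ (n : ℕ) (α : Type u) [Fintype α] [DecidableEq α], Fintype.card α = n →
    ∀ (P : Sylow 2 (Perm α)) (g : Perm α) (q : ℕ), q.Prime → q ≠ 2 → orderOf g = q →
    g ∈ Subgroup.normalizer ((P : Subgroup (Perm α)) : Set (Perm α)) → False := by
  intro n
  induction n with
  | zero =>
    intro α _ _ hα P g q hq _ hg _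
    have hemp : IsEmpty α := Fintype.card_eq_zero_iff.mp hα
    have : g = 1 := Subsingleton.elim _ _
    rw [this, orderOf_one] at hg
    exact hq.one_lt.ne' hg.symm
  | succ n ih =>
    intro α _ _ hα P g q hq hq2 hg hgN
    classical
    haveI : Fact (Nat.Prime 2) := ⟨Nat.prime_two⟩
    haveI : Fact q.Prime := ⟨hq⟩
    set v' := n.factorial.factorization 2 with hv'
    have hne : Nonempty α := by
      rw [← Fintype.card_pos_iff, hα]; exact Nat.succ_pos n
    obtain ⟨x0⟩ := hne
    -- a point whose stabilizer in `P` is large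
    have hex : ∃ x1 : α, Nat.card (stabilizer (P : Subgroup (Perm α)) x1) = 2 ^ v' := by
      let R : Sylow 2 (stabilizer (Perm α) x0) := default
      have hRcard : Nat.card (R : Subgroup (stabilizer (Perm α) x0)) = 2 ^ v' := by
        rw [R.card_eq_multiplicity, card_stab_succ hα x0]
      let R' : Subgroup (Perm α) :=
        (R : Subgroup (stabilizer (Perm α) x0)).map (stabilizer (Perm α) x0).subtype
      have hR' : IsPGroup 2 R' := R.isPGroup'.map _
      have hR'card : Nat.card R' = 2 ^ v' := by
        rw [Subgroup.card_map_of_injective (stabilizer (Perm α) x0).subtype_injective, hRcard]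
      obtain ⟨h, hh⟩ := SylMax.InstV4.exists_conj_le P R' hR'
      refine ⟨h x0, ?_⟩
      obtain ⟨j, hj, hjc⟩ := card_stabP hα (P : Subgroup (Perm α)) P.isPGroup' (h x0)
      have hfix : ∀ r ∈ R', r x0 = x0 := by
        rintro _ ⟨r, _, rfl⟩
        exact r.2
      let φ : R' → stabilizer (P : Subgroup (Perm α)) (h x0) := fun r =>
        ⟨⟨h * r.1 * h⁻¹, hh r.1 r.2⟩, by
          rw [mem_stabilizer_iff]
          show (h * r.1 * h⁻¹) (h x0) = h x0
          simp [hfix r.1 r.2]⟩
      have hφ : Function.Injective φ := by
        intro r r' hrr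
        have h1 : h * r.1 * h⁻¹ = h * r'.1 * h⁻¹ := congrArg (fun t => t.1.1) hrr
        apply Subtype.ext
        have h2 : r.1 = h⁻¹ * (h * r.1 * h⁻¹) * h := by group
        have h3 : r'.1 = h⁻¹ * (h * r'.1 * h⁻¹) * h := by group
        rw [h2, h3, h1]
      have hle := Nat.card_le_card_of_injective φ hφ
      rw [hR'card, hjc] at hle
      have : v' ≤ j := (Nat.pow_le_pow_iff_right (by norm_num)).mp hle
      rw [hjc]
      congr 1
      omega
    obtain ⟨x1, hx1⟩ := hex
    -- the set `X`
    set X : Set α := {y | Nat.card (stabilizer (P : Subgroup (Perm α)) y) = 2 ^ v'} with hX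
    have hx1X : x1 ∈ X := hx1
    -- `X` is a single orbit
    have hXorb : ∀ y ∈ X, y ∈ orbit (P : Subgroup (Perm α)) x1 := by
      intro y hy
      by_contra hne
      apply TwoOrbits.two_orbits P hne
      have h1 := orbit_mul_stab (P : Subgroup (Perm α)) x1
      have h2 := orbit_mul_stab (P : Subgroup (Perm α)) y
      rw [hx1] at h1
      rw [show Nat.card (stabilizer (P : Subgroup (Perm α)) y) = 2 ^ v' from hy] at h2
      exact Nat.eq_of_mul_eq_mul_right (by positivity) (h1.trans h2.symm)
    have horbX : ∀ y ∈ orbit (P : Subgroup (Perm α)) x1, y ∈ X := by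
      intro y hy
      have h1 := orbit_mul_stab (P : Subgroup (Perm α)) x1
      have h2 := orbit_mul_stab (P : Subgroup (Perm α)) y
      rw [(orbit_eq_iff.mpr hy)] at h2
      rw [hx1] at h1
      have hpos : 0 < (orbit (P : Subgroup (Perm α)) x1).ncard :=
        (Set.ncard_pos (Set.toFinite _)).mpr ⟨x1, mem_orbit_self x1⟩
      exact Nat.eq_of_mul_eq_mul_left hpos (h2.trans h1.symm)
    have hXeq : X = orbit (P : Subgroup (Perm α)) x1 :=
      Set.Subset.antisymm hXorb horbX
    -- size of `X` is a power of two
    have hXcard : ∃ i, X.ncard = 2 ^ i := by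
      have h1 := orbit_mul_stab (P : Subgroup (Perm α)) x1
      rw [P.card_eq_multiplicity] at h1
      rw [hXeq]
      exact (Nat.dvd_prime_pow Nat.prime_two).mp (Dvd.intro _ h1) |>.imp fun i hi => hi.2
    -- invariance of `X` under the normalizer
    have hinv : ∀ k ∈ Subgroup.normalizer ((P : Subgroup (Perm α)) : Set (Perm α)),
        ∀ y ∈ X, k y ∈ X := by
      intro k hk y hy
      obtain ⟨j, hj, hjc⟩ := card_stabP hα (P : Subgroup (Perm α)) P.isPGroup' (k y)
      let φ : stabilizer (P : Subgroup (Perm α)) y → stabilizer (P : Subgroup (Perm α)) (k y) :=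
        fun s => ⟨⟨k * s.1.1 * k⁻¹, (Subgroup.mem_normalizer_iff.mp hk s.1.1).mp s.1.2⟩, by
          rw [mem_stabilizer_iff]
          show (k * s.1.1 * k⁻¹) (k y) = k y
          have : s.1.1 y = y := s.2
          simp [this]⟩
      have hφ : Function.Injective φ := by
        intro r r' hrr
        have h1 : k * r.1.1 * k⁻¹ = k * r'.1.1 * k⁻¹ := congrArg (fun t => t.1.1) hrr
        apply Subtype.ext
        apply Subtype.ext
        have h2 : r.1.1 = k⁻¹ * (k * r.1.1 * k⁻¹) * k := by group
        have h3 : r'.1.1 = k⁻¹ * (k * r'.1.1 * k⁻¹) * k := by group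
        rw [h2, h3, h1]
      have hle := Nat.card_le_card_of_injective φ hφ
      rw [show Nat.card (stabilizer (P : Subgroup (Perm α)) y) = 2 ^ v' from hy, hjc] at hle
      have : v' ≤ j := (Nat.pow_le_pow_iff_right (by norm_num)).mp hle
      show Nat.card (stabilizer (P : Subgroup (Perm α)) (k y)) = 2 ^ v'
      rw [hjc]
      congr 1
      omega
    -- a fixed point of `g` in `X`
    have hgX : ∀ y, g y ∈ X ↔ y ∈ X := by
      intro y
      constructor
      · intro h
        have := hinv g⁻¹ (Subgroup.inv_mem _ hgN) (g y) h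
        simpa using this
      · exact hinv g hgN y
    have hfixed : ∃ x ∈ X, g x = x := by
      obtain ⟨i, hi⟩ := hXcard
      have hcardX : Fintype.card {y // y ∈ X} = 2 ^ i := by
        rw [← hi, ← Nat.card_eq_fintype_card]
        exact Nat.card_coe_set_eq X
      have hnd : ¬ q ∣ Fintype.card {y // y ∈ X} := by
        rw [hcardX]
        intro hd
        have := (Nat.prime_dvd_prime_iff_eq hq Nat.prime_two).mp (hq.dvd_of_dvd_pow hd)
        exact hq2 this
      have hpow : (g.subtypePerm hgX) ^ q ^ 1 = 1 := by
        rw [pow_one, Perm.subtypePerm_pow]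
        have : g ^ q = 1 := by rw [← hg]; exact pow_orderOf_eq_one g
        simp only [this]
        rfl
      obtain ⟨⟨x, hx⟩, hfx⟩ := Perm.exists_fixed_point_of_prime hnd hpow
      refine ⟨x, hx, ?_⟩
      have := congrArg Subtype.val hfx
      simpa using this
    obtain ⟨x, hxX, hgx⟩ := hfixed
    -- pass to the complement of `x`
    let p : α → Prop := fun y => y ≠ x
    let ι : Perm {y // p y} →* Perm α := Perm.ofSubtype
    have hι : Function.Injective ι := Perm.ofSubtype_injective
    have hcardβ : Fintype.card {y // p y} = n := by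
      have h0 : ({x}ᶜ : Set α).ncard = n := by
        rw [Set.ncard_compl, Set.ncard_singleton, Nat.card_eq_fintype_card, hα]
        rfl
      rw [← Nat.card_eq_fintype_card, ← h0]
      exact Nat.card_coe_set_eq ({x}ᶜ : Set α)
    let P' : Subgroup (Perm {y // p y}) := (P : Subgroup (Perm α)).comap ι
    have hιfix : ∀ s : Perm {y // p y}, ι s x = x := by
      intro s
      exact Perm.ofSubtype_apply_of_not_mem s (fun h => h rfl)
    have hP'card : Nat.card P' = 2 ^ v' := by
      let e : P' → stabilizer (P : Subgroup (Perm α)) x := fun s =>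
        ⟨⟨ι s.1, s.2⟩, by
          rw [mem_stabilizer_iff]
          exact hιfix s.1⟩
      have he : Function.Bijective e := by
        constructor
        · intro s s' hss
          have : ι s.1 = ι s'.1 := congrArg (fun t => t.1.1) hss
          exact Subtype.ext (hι this)
        · intro t
          have htx : t.1.1 x = x := t.2
          have h1 : ∀ y, p (t.1.1 y) ↔ p y := by
            intro y
            show t.1.1 y ≠ x ↔ y ≠ x
            constructor
            · intro h hy; apply h; rw [hy, htx]
            · intro h hy; apply h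
              apply t.1.1.injective; rw [hy, htx]
          have h2 : ∀ y, t.1.1 y ≠ y → p y := by
            intro y hy hyx
            apply hy; rw [hyx, htx]
          have h3 : ι (t.1.1.subtypePerm h1) = t.1.1 := Perm.ofSubtype_subtypePerm h1 h2
          refine ⟨⟨t.1.1.subtypePerm h1, ?_⟩, ?_⟩
          · show ι (t.1.1.subtypePerm h1) ∈ (P : Subgroup (Perm α))
            rw [h3]; exact t.1.2
          · apply Subtype.ext
            apply Subtype.ext
            exact h3
      rw [Nat.card_congr (Equiv.ofBijective e he)]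
      exact hxX
    have hPermβ : Nat.card (Perm {y // p y}) = n.factorial := by
      rw [Nat.card_perm, Nat.card_eq_fintype_card, hcardβ]
    let P'' : Sylow 2 (Perm {y // p y}) := Sylow.ofCard P' (by rw [hP'card, hPermβ])
    have hg1 : ∀ y, p (g y) ↔ p y := by
      intro y
      show g y ≠ x ↔ y ≠ x
      constructor
      · intro h hy; apply h; rw [hy, hgx]
      · intro h hy; apply h
        apply g.injective; rw [hy, hgx]
    have hg2 : ∀ y, g y ≠ y → p y := by
      intro y hy hyx
      apply hy; rw [hyx, hgx]
    have hιg : ι (g.subtypePerm hg1) = g := Perm.ofSubtype_subtypePerm hg1 hg2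
    have hord : orderOf (g.subtypePerm hg1) = q := by
      rw [← orderOf_injective ι hι, hιg, hg]
    have hnorm : g.subtypePerm hg1 ∈
        Subgroup.normalizer ((P'' : Subgroup (Perm {y // p y})) : Set (Perm {y // p y})) := by
      rw [Subgroup.mem_normalizer_iff]
      intro s
      show ι s ∈ (P : Subgroup (Perm α)) ↔
        ι (g.subtypePerm hg1 * s * (g.subtypePerm hg1)⁻¹) ∈ (P : Subgroup (Perm α))
      rw [map_mul, map_mul, map_inv, hιg]
      exact Subgroup.mem_normalizer_iff.mp hgN (ι s)
    exact ih {y // p y} hcardβ P'' (g.subtypePerm hg1) q hq hq2 hord hnorm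

end Cfsg.Agent.Helper95.Pron.SelfNorm
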