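import Mathlib
import Cfsg.Agent.Lib.Helper95.Pron.Rich
import Cfsg.Agent.Lib.Helper95.Pron.SelfNorm

set_option autoImplicit false
set_option linter.unusedSectionVars false

namespace Cfsg.Agent.Helper95.Pron.AltNorm

open MulAction Equiv
open scoped Pointwise

universe u
variable {α : Type u} [Fintype α] [DecidableEq α]

/-- a Sylow `2`-subgroup of the alternating group, as a subgroup of `Perm α` -/
def img (S : Sylow 2 (alternatingGroup α)) : Subgroup (Perm α) :=
  (S : Subgroup (alternatingGroup α)).map (alternatingGroup α).subtype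

variable (S : Sylow 2 (alternatingGroup α))

theorem mem_img {x : Perm α} :
    x ∈ img S ↔ ∃ hx : x ∈ alternatingGroup α, (⟨x, hx⟩ : alternatingGroup α) ∈ S := by
  unfold img
  rw [Subgroup.mem_map]
  constructor
  · rintro ⟨y, hy, rfl⟩
    exact ⟨y.2, hy⟩
  · rintro ⟨hx, h⟩
    exact ⟨⟨x, hx⟩, h, rfl⟩

theorem img_le : img S ≤ alternatingGroup α := by
  intro x hx
  obtain ⟨h, -⟩ := (mem_img S).mp hx
  exact h

theorem isPGroup_img : IsPGroup 2 (img S) := S.isPGroup'.map _

/-- maximality -/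
theorem maxi (Q : Subgroup (Perm α)) (hQ : IsPGroup 2 Q) (hle : img S ≤ Q) :
    ∀ x ∈ Q, x ∈ alternatingGroup α → x ∈ img S := by
  intro x hxQ hxA
  have hQ' : IsPGroup 2 (Q.comap (alternatingGroup α).subtype) := hQ.comap_subtype
  have hSQ : (S : Subgroup (alternatingGroup α)) ≤ Q.comap (alternatingGroup α).subtype := by
    intro s hs
    rw [Subgroup.mem_comap]
    apply hle
    rw [mem_img]
    exact ⟨s.2, hs⟩
  have heq := S.is_maximal' hQ' hSQ
  rw [mem_img]
  refine ⟨hxA, ?_⟩
  have : (⟨x, hxA⟩ : alternatingGroup α) ∈ Q.comap (alternatingGroup α).subtype := by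
    rw [Subgroup.mem_comap]; exact hxQ
  rw [heq] at this
  exact this

theorem hSyl (Q : Subgroup (Perm α)) (hQ : IsPGroup 2 Q) (hle : Q ≤ alternatingGroup α) :
    ∃ h : Perm α, ∀ r ∈ Q, h * r * h⁻¹ ∈ img S := by
  haveI : Fact (Nat.Prime 2) := ⟨Nat.prime_two⟩
  have hQ' : IsPGroup 2 (Q.comap (alternatingGroup α).subtype) := hQ.comap_subtype
  obtain ⟨g, hg⟩ := SylMax.InstV4.exists_conj_le S _ hQ'
  refine ⟨(g : Perm α), fun r hr => ?_⟩
  have h1 : (⟨r, hle hr⟩ : alternatingGroup α) ∈ Q.comap (alternatingGroup α).subtype := by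
    rw [Subgroup.mem_comap]; exact hr
  have h2 := hg _ h1
  rw [mem_img]
  exact ⟨(g * ⟨r, hle hr⟩ * g⁻¹).2, h2⟩

/-- the elements normalizing `img S` (one direction) -/
def Nz (x : Perm α) : Prop := ∀ s ∈ img S, x * s * x⁻¹ ∈ img S

theorem Nz_mul {x y : Perm α} (hx : Nz S x) (hy : Nz S y) : Nz S (x * y) := by
  intro s hs
  have := hx _ (hy _ hs)
  rw [mul_inv_rev]
  simpa only [mul_assoc] using this

theorem Nz_of_mem (Q : Subgroup (Perm α)) (hQ : IsPGroup 2 Q) (hle : img S ≤ Q) {x : Perm α}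
    (hx : x ∈ Q) : Nz S x := by
  intro s hs
  apply maxi S Q hQ hle
  · exact Q.mul_mem (Q.mul_mem hx (hle hs)) (Q.inv_mem hx)
  · exact (inferInstance : (alternatingGroup α).Normal).conj_mem s (img_le S hs) x

theorem mem_normalizer_of_Nz {x : Perm α} (hx : Nz S x) :
    x ∈ Subgroup.normalizer ((img S : Subgroup (Perm α)) : Set (Perm α)) :=
  Subgroup.mem_normalizer_fintype hx

section six
variable (hn : 6 ≤ Fintype.card α)
include hn

theorem no3 {c3 : Perm α} (h3 : c3.IsThreeCycle) (hN : Nz S c3) : False :=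
  Rich.no_three_cycle hn (isPGroup_img S) (Rich.exists_family hn _ (hSyl S)) h3 hN

theorem three {x y z : α} (hxy : x ≠ y) (hxz : x ≠ z) (hyz : y ≠ z) (h1 : Nz S (swap x y))
    (h2 : Nz S (swap x z)) : False :=
  no3 S hn (Perm.isThreeCycle_swap_mul_swap_same hxy hxz hyz) (Nz_mul S h1 h2)

theorem disj {a b c d : α} (hab : a ≠ b) (hcd : c ≠ d) (h1 : Nz S (swap a b))
    (h2 : Nz S (swap c d)) (hne : swap a b ≠ swap c d) : a ≠ c ∧ a ≠ d ∧ b ≠ c ∧ b ≠ d := by
  refine ⟨?_, ?_, ?_, ?_⟩
  · intro h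
    rw [← h] at h2 hne hcd
    have hbd : b ≠ d := fun h' => hne (by rw [h'])
    exact three S hn hab hcd hbd h1 h2
  · intro h
    rw [← h, swap_comm] at h2 hne
    rw [← h] at hcd
    have hbc : b ≠ c := fun h' => hne (by rw [h'])
    exact three S hn hab (Ne.symm hcd) hbc h1 h2
  · intro h
    rw [← h] at h2 hne hcd
    rw [swap_comm] at h1 hne
    have had : a ≠ d := fun h' => hne (by rw [h'])
    exact three S hn (Ne.symm hab) hcd had h1 h2
  · intro h
    rw [← h, swap_comm c b] at h2 hne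
    rw [← h] at hcd
    rw [swap_comm a b] at h1 hne
    have hac : a ≠ c := fun h' => hne (by rw [h'])
    exact three S hn (Ne.symm hab) (Ne.symm hcd) hac h1 h2

theorem prod_mem {a b c d : α} (hab : a ≠ b) (hcd : c ≠ d) (h1 : Nz S (swap a b))
    (h2 : Nz S (swap c d)) (hne : swap a b ≠ swap c d) : swap a b * swap c d ∈ img S := by
  haveI : Fact (Nat.Prime 2) := ⟨Nat.prime_two⟩
  obtain ⟨hac, had, hbc, hbd⟩ := disj S hn hab hcd h1 h2 hne
  have hsq : (swap a b * swap c d) ^ 2 = 1 := by
    rw [pow_two]; exact SylMax.InstV4.dswap_sq hac had hbc hbd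
  have hA : swap a b * swap c d ∈ alternatingGroup α := by
    rw [Perm.mem_alternatingGroup, Perm.sign_mul, Perm.sign_swap hab, Perm.sign_swap hcd]
    rfl
  have hQ : IsPGroup 2 (Subgroup.zpowers (swap a b * swap c d) ⊔ img S : Subgroup (Perm α)) := by
    apply IsPGroup.to_sup_of_normal_right' (SylMax.InstAlt.isPGroup_zpowers_of_sq hsq)
      (isPGroup_img S)
    rw [Subgroup.zpowers_le]
    exact mem_normalizer_of_Nz S (Nz_mul S h1 h2)
  exact maxi S _ hQ le_sup_right _ (Subgroup.mem_sup_left (Subgroup.mem_zpowers _)) hA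

/-- an element of odd prime order does not normalize a Sylow `2`-subgroup of `A_n`, `n ≥ 6` -/
theorem no_odd (g : Perm α) (q : ℕ) (hq : q.Prime) (hq2 : q ≠ 2) (hgo : orderOf g = q)
    (hg : g ∈ Subgroup.normalizer ((img S : Subgroup (Perm α)) : Set (Perm α))) : False := by
  haveI : Fact (Nat.Prime 2) := ⟨Nat.prime_two⟩
  obtain ⟨P0, hP0⟩ := (isPGroup_img S).exists_le_sylow
  have hM := maxi S P0 P0.isPGroup' hP0
  -- a transposition in `P0`
  haveI : Nontrivial α := Fintype.one_lt_card_iff_nontrivial.mp (by omega)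
  obtain ⟨a0, b0, hab0⟩ := exists_pair_ne α
  have hsw : IsPGroup 2 (Subgroup.zpowers (swap a0 b0)) :=
    SylMax.InstAlt.isPGroup_zpowers_of_sq (by rw [pow_two, swap_mul_self])
  obtain ⟨k, hk⟩ := SylMax.InstV4.exists_conj_le P0 _ hsw
  have ht := hk _ (Subgroup.mem_zpowers _)
  rw [← swap_apply_apply] at ht
  have hab : k a0 ≠ k b0 := fun h => hab0 (k.injective h)
  generalize k a0 = a at ht hab
  generalize k b0 = b at ht hab
  have hNt : Nz S (swap a b) := Nz_of_mem S P0 P0.isPGroup' hP0 ht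
  have hNg : Nz S g := fun s hs => (Subgroup.mem_normalizer_iff.mp hg s).mp hs
  have hNg' : Nz S g⁻¹ := by
    intro s hs
    have := (Subgroup.mem_normalizer_iff.mp (Subgroup.inv_mem _ hg) s).mp hs
    exact this
  have hNt' : Nz S (swap (g a) (g b)) := by
    rw [swap_apply_apply]
    exact Nz_mul S (Nz_mul S hNg hNt) hNg'
  have hgab : g a ≠ g b := fun h => hab (g.injective h)
  have ht' : swap (g a) (g b) ∈ (P0 : Subgroup (Perm α)) := by
    by_cases he : swap a b = swap (g a) (g b)
    · rw [← he]; exact ht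
    · have h1 := hP0 (prod_mem S hn hab hgab hNt hNt' he)
      have h2 := (P0 : Subgroup (Perm α)).mul_mem ht h1
      rwa [← mul_assoc, swap_mul_self, one_mul] at h2
  have hnorm : g ∈ Subgroup.normalizer ((P0 : Subgroup (Perm α)) : Set (Perm α)) := by
    apply Subgroup.mem_normalizer_fintype
    intro x hx
    by_cases hxA : x ∈ alternatingGroup α
    · exact hP0 (hNg _ (hM x hx hxA))
    · have hsx : Perm.sign x = -1 := by
        rcases Int.units_eq_one_or (Perm.sign x) with h | h
        · exact absurd (Perm.mem_alternatingGroup.mpr h) hxA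
        · exact h
      have hyA : x * swap a b ∈ alternatingGroup α := by
        rw [Perm.mem_alternatingGroup, Perm.sign_mul, hsx, Perm.sign_swap hab]
        rfl
      have hy := hM _ ((P0 : Subgroup (Perm α)).mul_mem hx ht) hyA
      have h1 := hP0 (hNg _ hy)
      have h2 := (P0 : Subgroup (Perm α)).mul_mem h1 ht'
      rw [swap_apply_apply] at h2
      have e : g * (x * swap a b) * g⁻¹ * (g * swap a b * g⁻¹) = g * x * g⁻¹ := by
        have : swap a b * swap a b = 1 := swap_mul_self a b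
        calc g * (x * swap a b) * g⁻¹ * (g * swap a b * g⁻¹)
            = g * x * (swap a b * swap a b) * g⁻¹ := by group
          _ = g * x * g⁻¹ := by rw [this, mul_one]
      rw [e] at h2
      exact h2
  exact SelfNorm.no_odd_norm _ α rfl P0 g q hq hq2 hgo hnorm

end six

end Cfsg.Agent.Helper95.Pron.AltNorm
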