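import Mathlib
import Cfsg.Agent.Lib.Helper95.Pron.AltNorm
import Cfsg.Agent.Lib.Helper95.Pron.KMR
import Cfsg.Agent.Lib.Helper95.SylMax.Generic2
import Cfsg.Agent.Lib.Helper95.SylMax.InstAlt

set_option autoImplicit false
set_option linter.unusedSectionVars false

namespace Cfsg.Agent.Helper95.Pron.Final

open MulAction Equiv
open scoped Pointwise

theorem six (n : ℕ) (hn : 6 ≤ n) (H : Subgroup (alternatingGroup (Fin n))) (hH : Odd H.index) :
    Cfsg.IsPronormal H := by
  haveI : Fact (Nat.Prime 2) := ⟨Nat.prime_two⟩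
  have hodd : ¬ 2 ∣ H.index := fun h => (Nat.not_even_iff_odd.mpr hH) (even_iff_two_dvd.mpr h)
  obtain ⟨S, hSH⟩ := KMR.exists_sylow_le H hodd
  have hcard : 6 ≤ Fintype.card (Fin n) := by rw [Fintype.card_fin]; exact hn
  have hNS : ∀ m ∈ Subgroup.normalizer ((S : Subgroup (alternatingGroup (Fin n))) :
      Set (alternatingGroup (Fin n))), m ∈ (S : Subgroup (alternatingGroup (Fin n))) := by
    have hNp : IsPGroup 2 (Subgroup.normalizer ((S : Subgroup (alternatingGroup (Fin n))) :
        Set (alternatingGroup (Fin n)))) := by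
      have hcardN := Nat.eq_prime_pow_of_unique_prime_dvd (p := 2)
        (n := Nat.card (Subgroup.normalizer ((S : Subgroup (alternatingGroup (Fin n))) :
          Set (alternatingGroup (Fin n))))) Nat.card_pos.ne' (by
        intro q hq hqd
        by_contra hq2
        haveI : Fact q.Prime := ⟨hq⟩
        obtain ⟨x, hx⟩ := exists_prime_orderOf_dvd_card' q hqd
        apply AltNorm.no_odd S hcard ((x : alternatingGroup (Fin n)) : Perm (Fin n)) q hq hq2
        · rw [Subgroup.orderOf_coe, Subgroup.orderOf_coe, hx]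
        · apply Subgroup.mem_normalizer_fintype
          intro s hs
          obtain ⟨hsA, hsS⟩ := (AltNorm.mem_img S).mp hs
          rw [SetLike.mem_coe, AltNorm.mem_img]
          refine ⟨((x : alternatingGroup (Fin n)) * ⟨s, hsA⟩ *
            (x : alternatingGroup (Fin n))⁻¹).2, ?_⟩
          exact (Subgroup.mem_normalizer_iff.mp x.2 _).mp hsS)
      exact IsPGroup.of_card hcardN
    intro m hm
    have := S.is_maximal' hNp Subgroup.le_normalizer
    rw [← this]; exact hm
  exact KMR.pronormal_of_sylow H S hSH (fun m hm => KMR.map_conj_of_mem (hSH (hNS m hm)))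

theorem five (H : Subgroup (alternatingGroup (Fin 5))) (hH : Odd H.index) :
    Cfsg.IsPronormal H := by
  classical
  haveI : Fact (Nat.Prime 2) := ⟨Nat.prime_two⟩
  have hodd : ¬ 2 ∣ H.index := fun h => (Nat.not_even_iff_odd.mpr hH) (even_iff_two_dvd.mpr h)
  obtain ⟨S, hSH⟩ := KMR.exists_sylow_le H hodd
  have hG : SylMax.Generic.Good (Fin 5) (alternatingGroup (Fin 5)) :=
    SylMax.InstAlt.good_alt (by simp)
  have hcard5 : Fintype.card (Fin 5) = 2 ^ 2 + 1 := by simp
  obtain ⟨inf, hinf⟩ := (S.isPGroup').nonempty_fixed_point_of_prime_not_dvd_card (Fin 5)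
    (by rw [Nat.card_eq_fintype_card, Fintype.card_fin]; norm_num)
  rw [mem_fixedPoints] at hinf
  have hinf' : ∀ g ∈ (S : Subgroup (alternatingGroup (Fin 5))), g • inf = inf :=
    fun g hg => hinf ⟨g, hg⟩
  have hsz := SylMax.Generic.inv_sizes hG hcard5 S
  have hfix_unique : ∀ x, (∀ g ∈ (S : Subgroup (alternatingGroup (Fin 5))), g • x = x) →
      x = inf := by
    intro x hx
    by_contra hne
    have hA : (S : Subgroup (alternatingGroup (Fin 5))) ≤
        stabilizer (alternatingGroup (Fin 5)) ({x, inf} : Set (Fin 5)) := by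
      intro g hg
      rw [mem_stabilizer_iff, Set.smul_set_insert, Set.smul_set_singleton, hx g hg, hinf' g hg]
    have := hsz _ hA
    rw [Set.ncard_pair hne] at this
    omega
  have hSM : (S : Subgroup (alternatingGroup (Fin 5))) ≤
      stabilizer (alternatingGroup (Fin 5)) ({inf} : Set (Fin 5)) :=
    SylMax.Generic.stabilizer_singleton_of_fixed hinf'
  obtain ⟨M', ⟨hM'co, hSM'⟩, huniq⟩ := SylMax.Generic.unique_of_eq hG (le_refl 2) hcard5 S
  have hMco : IsCoatom (stabilizer (alternatingGroup (Fin 5)) ({inf} : Set (Fin 5))) := by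
    apply hG.hco _ (Set.singleton_nonempty inf)
    · rw [← Set.ncard_pos, Set.ncard_compl, Set.ncard_singleton, Nat.card_eq_fintype_card,
        Fintype.card_fin]
      norm_num
    · rw [Set.ncard_singleton, Fintype.card_fin]
      norm_num
  have hMM' := huniq _ ⟨hMco, hSM⟩
  -- the normalizer of `S` fixes `inf`
  have hNM : ∀ m ∈ Subgroup.normalizer ((S : Subgroup (alternatingGroup (Fin 5))) :
      Set (alternatingGroup (Fin 5))),
      m ∈ stabilizer (alternatingGroup (Fin 5)) ({inf} : Set (Fin 5)) := by
    intro m hm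
    have h1 : ∀ g ∈ (S : Subgroup (alternatingGroup (Fin 5))), g • (m • inf) = m • inf := by
      intro g hg
      have h2 : m⁻¹ * g * m ∈ (S : Subgroup (alternatingGroup (Fin 5))) :=
        (Subgroup.mem_normalizer_iff''.mp hm g).mp hg
      have h3 := hinf' _ h2
      rw [mul_smul, mul_smul] at h3
      have h4 := congrArg (fun y => m • y) h3
      simp only [smul_inv_smul] at h4
      exact h4
    have h5 := hfix_unique _ h1
    rw [mem_stabilizer_iff, Set.smul_set_singleton, h5]
  -- cardinalities
  have hG60 : Nat.card (alternatingGroup (Fin 5)) = 60 := by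
    rw [nat_card_alternatingGroup, Nat.card_eq_fintype_card, Fintype.card_fin]
    rfl
  have hM12 : Nat.card (stabilizer (alternatingGroup (Fin 5)) ({inf} : Set (Fin 5))) = 12 := by
    haveI : IsPretransitive (alternatingGroup (Fin 5)) (Fin 5) := ⟨hG.trans (by simp)⟩
    have h1 := (stabilizer (alternatingGroup (Fin 5)) ({inf} : Set (Fin 5))).index_mul_card
    rw [stabilizer_singleton, index_stabilizer, orbit_eq_univ, Set.ncard_univ,
      Nat.card_eq_fintype_card, Fintype.card_fin, hG60] at h1
    rw [stabilizer_singleton]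
    omega
  have hS4 : Nat.card (S : Subgroup (alternatingGroup (Fin 5))) = 4 := by
    obtain ⟨j, hj⟩ := IsPGroup.iff_card.mp S.isPGroup'
    have h1 := (S : Subgroup (alternatingGroup (Fin 5))).index_mul_card
    have h2 : ¬ 2 ∣ (S : Subgroup (alternatingGroup (Fin 5))).index := S.not_dvd_index
    rw [hG60] at h1
    rw [hj] at h1 ⊢
    have hj5 : j < 6 := by
      by_contra hcon
      push_neg at hcon
      have : 2 ^ 6 ≤ 2 ^ j := Nat.pow_le_pow_right (by norm_num) hcon
      have hpos : 0 < (S : Subgroup (alternatingGroup (Fin 5))).index := by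
        rcases Nat.eq_zero_or_pos (S : Subgroup (alternatingGroup (Fin 5))).index with h | h
        · rw [h] at h1; omega
        · exact h
      nlinarith
    generalize (S : Subgroup (alternatingGroup (Fin 5))).index = i at h1 h2
    interval_cases j <;> omega
  rcases eq_top_or_exists_le_coatom H with hHtop | ⟨M'', hM''co, hHM''⟩
  · exact KMR.pronormal_of_sylow H S hSH
      (fun m _ => KMR.map_conj_of_mem (by rw [hHtop]; exact Subgroup.mem_top m))
  · have hM''M' : M'' = M' := huniq M'' ⟨hM''co, le_trans hSH hHM''⟩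
    have hHM : H ≤ stabilizer (alternatingGroup (Fin 5)) ({inf} : Set (Fin 5)) := by
      rw [hMM', ← hM''M']; exact hHM''
    have hHcard : Nat.card H = 4 ∨ Nat.card H = 12 := by
      have h1 : Nat.card H ∣ 12 := by rw [← hM12]; exact Subgroup.card_dvd_of_le hHM
      have h2 := H.index_mul_card
      rw [hG60] at h2
      obtain ⟨k, hk⟩ := hH
      rw [hk] at h2
      have h3 : Nat.card H ≤ 12 := Nat.le_of_dvd (by norm_num) h1
      generalize Nat.card H = c at h1 h2 h3
      interval_cases c <;> omega
    rcases hHcard with hc | hc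
    · -- `H = S`
      have hHS : (S : Subgroup (alternatingGroup (Fin 5))) = H :=
        Subgroup.eq_of_le_of_card_ge hSH (by rw [hc, hS4])
      apply KMR.pronormal_of_sylow H S hSH
      intro m hm
      ext z
      rw [KMR.mem_conj, ← hHS]
      exact ((Subgroup.mem_normalizer_iff''.mp hm z)).symm
    · -- `H = M`
      have hHM' : H = stabilizer (alternatingGroup (Fin 5)) ({inf} : Set (Fin 5)) :=
        Subgroup.eq_of_le_of_card_ge hHM (by rw [hc, hM12])
      apply KMR.pronormal_of_sylow H S hSH
      intro m hm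
      apply KMR.map_conj_of_mem
      rw [hHM']
      exact hNM m hm

end Cfsg.Agent.Helper95.Pron.Final
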